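import Mathlib

/-!
The group `V^k ⋊ ({±1} × PSL₂(q))`, `q = 3^n` (`n` odd), `V = W ⊗ W^(3)`:
all element orders divide one of `6, 9, q-1, (q+1)/2`, and all four occur.
-/

set_option autoImplicit false
noncomputable section

namespace ReeSub

open Matrix

variable {K : Type*} [Field K] [CharP K 3]

abbrev M2 (K : Type*) := Matrix (Fin 2) (Fin 2) K
abbrev SL (K : Type*) [Field K] := Matrix.SpecialLinearGroup (Fin 2) K

variable [Fact (Nat.Prime 3)]

def fr (A : M2 K) : M2 K := A.map (frobenius K 3)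

lemma fr_mul (A B : M2 K) : fr (A * B) = fr A * fr B := by
  simp [fr, Matrix.map_mul]

lemma fr_one : fr (1 : M2 K) = 1 := by
  simp [fr, Matrix.map_one]

lemma fr_det (A : M2 K) : (fr A).det = A.det ^ 3 := by
  rw [fr, ← frobenius_def, RingHom.map_det]; rfl

lemma fr_trace (A : M2 K) : (fr A).trace = A.trace ^ 3 := by
  simp [fr, Matrix.trace_fin_two, frobenius_def, add_pow_char]

lemma ch2 (A : M2 K) : A * A = A.trace • A - A.det • (1 : M2 K) := by
  ext i j
  fin_cases i <;> fin_cases j <;>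
    simp [Matrix.mul_apply, Matrix.trace_fin_two, Matrix.det_fin_two, Fin.sum_univ_two] <;> ring

/-- the endomorphism `X ↦ ε • h X (h^F)ᵀ`. -/
def endo (e : ℤˣ × SL K) : Module.End K (M2 K) where
  toFun X := ((e.1 : ℤ) : K) • ((e.2 : M2 K) * X * (fr (e.2 : M2 K))ᵀ)
  map_add' X Y := by simp [mul_add, add_mul]
  map_smul' c X := by simp [smul_comm c]

lemma endo_apply (e : ℤˣ × SL K) (X : M2 K) :
    endo e X = ((e.1 : ℤ) : K) • ((e.2 : M2 K) * X * (fr (e.2 : M2 K))ᵀ) := rfl

def endoHom : ℤˣ × SL K →* Module.End K (M2 K) where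
  toFun := endo
  map_one' := by
    refine LinearMap.ext fun X => ?_
    simp [endo_apply, fr_one]
  map_mul' a b := by
    refine LinearMap.ext fun X => ?_
    simp only [Module.End.mul_apply, endo_apply, Prod.fst_mul, Prod.snd_mul,
      Matrix.SpecialLinearGroup.coe_mul, fr_mul, Matrix.transpose_mul, Units.val_mul, Int.cast_mul,
      Matrix.mul_smul, Matrix.smul_mul, smul_smul, mul_assoc]

def rho : ℤˣ × SL K →* (Module.End K (M2 K))ˣ := (endoHom (K := K)).toHomUnits

lemma rho_apply (e : ℤˣ × SL K) (X : M2 K) :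
    ((rho e : (Module.End K (M2 K))ˣ) : Module.End K (M2 K)) X =
      ((e.1 : ℤ) : K) • ((e.2 : M2 K) * X * (fr (e.2 : M2 K))ᵀ) := rfl

def G1 (K : Type*) [Field K] [CharP K 3] : Subgroup (Module.End K (M2 K))ˣ :=
  (rho (K := K)).range

lemma rho_mem (e : ℤˣ × SL K) : rho e ∈ G1 K := ⟨e, rfl⟩

def el (e : ℤˣ × SL K) : G1 K := ⟨rho e, rho_mem e⟩

lemma el_pow (e : ℤˣ × SL K) (n : ℕ) : (el e) ^ n = el (e ^ n) :=
  Subtype.ext (map_pow rho e n).symm

lemma el_one : el (1 : ℤˣ × SL K) = 1 := Subtype.ext (map_one rho)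

lemma exists_el (g : G1 K) : ∃ e, el e = g := by
  obtain ⟨e, he⟩ := g.2
  exact ⟨e, Subtype.ext he⟩

lemma el_neg (ε : ℤˣ) (h : SL K) : el (ε, -h) = el (ε, h) := by
  refine Subtype.ext (Units.ext (LinearMap.ext fun X => ?_))
  change endo _ X = endo _ X
  have e : fr (-(h : M2 K)) = -fr (h : M2 K) := by
    ext i j; simp [fr]
  simp [endo_apply, e, Matrix.transpose_neg]

lemma el_pm {h : SL K} (hh : h = 1 ∨ h = -1) : el ((1 : ℤˣ), h) = 1 := by
  rcases hh with rfl | rfl
  · exact el_one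
  · rw [el_neg]; exact el_one

lemma el_pow_pm {ε : ℤˣ} {h : SL K} {N : ℕ} (hε : ε ^ N = 1) (hh : h ^ N = 1 ∨ h ^ N = -1) :
    el (ε, h) ^ N = 1 := by
  rw [el_pow, Prod.pow_mk, hε]
  exact el_pm hh

lemma three_zero : (3 : K) = 0 := by
  simpa using CharP.cast_eq_zero K 3

lemma two_ne : (2 : K) ≠ 0 := by
  intro h
  have := three_zero (K := K)
  exact one_ne_zero (by linear_combination this - h : (1 : K) = 0)

lemma sign_sq (ε : ℤˣ) : ((ε : ℤ) : K) * ((ε : ℤ) : K) = 1 := by
  rcases Int.units_eq_one_or ε with h | h <;> simp [h]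

/-- eigenvector analysis. -/
lemma sq_or_cube (hneg : ∀ x : K, x * x ≠ -1) (e : ℤˣ × SL K) (X : M2 K) (hX : X ≠ 0)
    (hfix : endo e X = X) :
    (el e) ^ 2 = 1 ∨ (el e) ^ 3 = 1 := by
  obtain ⟨ε, h⟩ := e
  set H : M2 K := (h : M2 K) with hH
  set t : K := H.trace with ht
  set c : K := ((ε : ℤ) : K) with hc
  have hdet : H.det = 1 := h.2
  have hH2 : H * H = t • H - 1 := by rw [ch2, hdet, one_smul]
  set G : M2 K := (fr H)ᵀ with hG
  have hGdet : G.det = 1 := by rw [hG, Matrix.det_transpose, fr_det, hdet, one_pow]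
  have hGtr : G.trace = t ^ 3 := by rw [hG, Matrix.trace_transpose, fr_trace]
  have hG2 : G * G = t ^ 3 • G - 1 := by rw [ch2, hGdet, hGtr, one_smul]
  set G' : M2 K := t ^ 3 • 1 - G with hG'
  have hGG' : G * G' = 1 := by
    rw [hG', mul_sub, Matrix.mul_smul, mul_one, hG2]; abel
  have hG'2 : G' * G' = t ^ 3 • G' - 1 := by
    rw [hG', sub_mul, mul_sub, mul_sub, smul_mul_assoc, mul_smul_comm, mul_smul_comm, smul_mul_assoc,
      one_mul, mul_one, hG2, one_mul, smul_sub]
    abel
  have h1 : c • (H * X * G) = X := hfix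
  have hcc : c * c = 1 := sign_sq ε
  have h2 : H * X = c • (X * G') := by
    conv_rhs => rw [← h1]
    rw [smul_mul_assoc, smul_smul, hcc, one_smul, mul_assoc, hGG', mul_one]
  have h3 : H * (H * X) = X * (G' * G') := by
    rw [h2, mul_smul_comm, ← mul_assoc, h2, smul_mul_assoc, smul_smul, hcc, one_smul, mul_assoc]
  have h4 : (t * c - t ^ 3) • (X * G') = 0 := by
    have e1 : H * (H * X) = t • (c • (X * G')) - X := by
      rw [← mul_assoc, hH2, sub_mul, smul_mul_assoc, h2, one_mul]
    rw [h3, hG'2, mul_sub, mul_one, mul_smul_comm] at e1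
    rw [sub_smul, ← smul_smul, ← sub_left_inj.1 e1, sub_self]
  have hXG : X * G' ≠ 0 := by
    intro h0
    rw [h0, smul_zero] at h2
    rw [h2] at h1
    exact hX (by rw [← h1]; simp)
  have h5 : t * c - t ^ 3 = 0 := (smul_eq_zero.1 h4).resolve_right hXG
  have h5' : t * (t * t - c) = 0 := by linear_combination -h5
  rcases mul_eq_zero.1 h5' with h0 | h0
  · left
    have hsq : h ^ 2 = -1 := by
      refine Subtype.ext ?_
      rw [h0, zero_smul, zero_sub] at hH2
      simpa [pow_two] using hH2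
    rw [el_pow]
    have he : (ε, h) ^ 2 = ((1 : ℤˣ), (-1 : SL K)) := by
      ext1 <;> simp [hsq, Int.units_sq]
    rw [he]; exact el_pm (Or.inr rfl)
  · right
    have htt : t * t = c := sub_eq_zero.1 h0
    rcases Int.units_eq_one_or ε with hε | hε
    swap
    · exact absurd (by rw [htt, hc, hε]; simp : t * t = -1) (hneg t)
    have hc1 : c = 1 := by rw [hc, hε]; simp
    rw [hc1] at htt
    have hcube : H * (H * H) = -(t • (1 : M2 K)) := by
      rw [hH2, mul_sub, mul_smul_comm, hH2, smul_sub, smul_smul, htt, one_smul, mul_one]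
      abel
    have h6 : h ^ 3 = 1 ∨ h ^ 3 = -1 := by
      rcases mul_self_eq_one_iff.1 htt with h1' | h1'
      · right; refine Subtype.ext ?_
        simpa [pow_three, h1'] using hcube
      · left; refine Subtype.ext ?_
        simpa [pow_three, h1'] using hcube
    rw [el_pow]
    have he : (ε, h) ^ 3 = ((1 : ℤˣ), h ^ 3) := by
      ext1 <;> simp [hε]
    rw [he]; exact el_pm h6

lemma cube_of_trace {h : SL K} (htt : (h : M2 K).trace * (h : M2 K).trace = 1) :
    h ^ 3 = 1 ∨ h ^ 3 = -1 := by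
  set H : M2 K := (h : M2 K)
  set t : K := H.trace
  have hdet : H.det = 1 := h.2
  have hH2 : H * H = t • H - 1 := by rw [ch2, hdet, one_smul]
  have hcube : H * (H * H) = -(t • (1 : M2 K)) := by
    rw [hH2, mul_sub, mul_smul_comm, hH2, smul_sub, smul_smul, htt, one_smul, mul_one]
    abel
  rcases mul_self_eq_one_iff.1 htt with h1' | h1'
  · right; refine Subtype.ext ?_
    simpa [pow_three, h1'] using hcube
  · left; refine Subtype.ext ?_
    simpa [pow_three, h1'] using hcube

lemma pm_of_sq {u : SL K} (hu : u ^ 2 = 1) : u = 1 ∨ u = -1 := by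
  set U : M2 K := (u : M2 K) with hU
  have h2 : U * U = 1 := by
    simpa [pow_two] using congrArg Subtype.val hu
  have hdet : U.det = 1 := u.2
  have h3 := ch2 U
  rw [h2, hdet, one_smul] at h3
  set τ := U.trace
  have h4 : τ • U = (2 : K) • (1 : M2 K) := by
    rw [eq_sub_iff_add_eq] at h3
    rw [← h3, two_smul]
  have hτ : τ ≠ 0 := by
    intro h0
    rw [h0, zero_smul] at h4
    have := congrFun (congrFun h4 0) 0
    simp at this
    exact two_ne this.symm
  have h5 : U = (2 / τ) • (1 : M2 K) := by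
    rw [div_eq_inv_mul, ← smul_smul, ← h4, smul_smul, inv_mul_cancel₀ hτ, one_smul]
  have h6 : (2 / τ) * (2 / τ) = 1 := by
    have := hdet
    rw [h5, Matrix.det_smul, Matrix.det_one, mul_one, Fintype.card_fin, pow_two] at this
    exact this
  rcases mul_self_eq_one_iff.1 h6 with h | h
  · left; refine Subtype.ext ?_
    show U = _
    rw [h5, h]; simp
  · right; refine Subtype.ext ?_
    show U = _
    rw [h5, h]; simp

variable [Fintype K] {n : ℕ}

lemma neg_one_not_sq (hK : Fintype.card K = 3 ^ n) (hn : Odd n) (x : K) : x * x ≠ -1 := by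
  intro hx
  have h := FiniteField.isSquare_neg_one_iff.1 ⟨x, hx.symm⟩
  apply h
  rw [hK]
  obtain ⟨j, rfl⟩ := hn
  rw [pow_succ, pow_mul, Nat.mul_mod, Nat.pow_mod]
  norm_num

lemma half_arith (hn : Odd n) :
    ∃ a, 3 ^ n = 4 * a + 3 := by
  obtain ⟨j, rfl⟩ := hn
  induction j with
  | zero => exact ⟨0, rfl⟩
  | succ j ih =>
    obtain ⟨a, ha⟩ := ih
    refine ⟨9 * a + 6, ?_⟩
    have : 2 * (j + 1) + 1 = (2 * j + 1) + 2 := by ring
    rw [this, pow_add, ha]; ring

lemma torus_pow (hK : Fintype.card K = 3 ^ n) (hn : Odd n) (h : SL K)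
    (hd : (h : M2 K).trace * (h : M2 K).trace ≠ 1) :
    h ^ (3 ^ n - 1) = 1 ∨ (h ^ ((3 ^ n + 1) / 2) = 1 ∨ h ^ ((3 ^ n + 1) / 2) = -1) := by
  set H : M2 K := (h : M2 K) with hHdef
  set t : K := H.trace with ht
  have hdet : H.det = 1 := h.2
  have hH2 : H * H = t • H - 1 := by rw [ch2, hdet, one_smul]
  set s : M2 K := -H - t • 1 with hs
  set d : K := t * t - 1 with hdd
  have hd0 : d ≠ 0 := sub_ne_zero.2 hd
  have h3 : (3 : K) = 0 := three_zero
  have hs2 : s * s = d • (1 : M2 K) := by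
    have e : s * s = (3 * t) • H + (t * t - 1) • (1 : M2 K) := by
      rw [hs]
      simp only [mul_sub, sub_mul, neg_mul, mul_neg, neg_neg, Matrix.mul_smul, Matrix.smul_mul,
        mul_one, one_mul, hH2, smul_smul]
      module
    rw [e, h3, zero_mul, zero_smul, zero_add]
  obtain ⟨a, ha⟩ := half_arith hn
  have hq : 3 ^ n = 2 * (Fintype.card K / 2) + 1 := by rw [hK]; omega
  have hsq : s ^ (3 ^ n) = d ^ (Fintype.card K / 2) • s := by
    conv_lhs => rw [hq]
    rw [pow_succ, pow_mul, pow_two, hs2, smul_pow, one_pow, smul_mul_assoc, one_mul]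
  have hHe : H = (-s) + (-(t • (1 : M2 K))) := by rw [hs]; abel
  have hcomm : Commute (-s) (-(t • (1 : M2 K))) :=
    ((Commute.one_right s).smul_right t).neg_left.neg_right
  have hodd : Odd (3 ^ n) := by
    rw [Nat.odd_iff]; omega
  have hHq : H ^ (3 ^ n) = -(s ^ (3 ^ n)) - t • 1 := by
    conv_lhs => rw [hHe]
    rw [add_pow_char_pow_of_commute 3 n hcomm, hodd.neg_pow, hodd.neg_pow, smul_pow, one_pow,
      ← hK, FiniteField.pow_card, hK]
    abel
  have hrc : ringChar K ≠ 2 := by
    rw [ringChar.eq K 3]; norm_num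
  rcases FiniteField.pow_dichotomy hrc hd0 with hd1 | hd1
  · left
    have h1 : H ^ (3 ^ n) = H := by
      rw [hHq, hsq, hd1, one_smul, hs]; abel
    have h2 : h ^ (3 ^ n) = h := Subtype.ext (by simpa using h1)
    have h3' : h ^ (3 ^ n - 1) * h = 1 * h := by
      rw [← pow_succ, one_mul]
      rwa [Nat.sub_add_cancel (Nat.one_le_pow _ _ (by norm_num))]
    exact mul_right_cancel h3'
  · right
    have h1 : H ^ (3 ^ n) = t • 1 - H := by
      rw [hHq, hsq, hd1, neg_one_smul, neg_neg, hs]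
      have e : -H - t • (1 : M2 K) - t • 1 = t • 1 - H - (3 * t) • 1 := by module
      rw [e, h3, zero_mul, zero_smul, sub_zero]
    have h2 : h ^ (3 ^ n + 1) = 1 := by
      refine Subtype.ext ?_
      rw [Matrix.SpecialLinearGroup.coe_pow, pow_succ, ← hHdef, h1, sub_mul, smul_mul_assoc, one_mul,
        hH2, Matrix.SpecialLinearGroup.coe_one]
      abel
    apply pm_of_sq
    rw [← pow_mul]
    rwa [Nat.div_mul_cancel ⟨2 * a + 2, by omega⟩]

lemma order_cases (hK : Fintype.card K = 3 ^ n) (hn : Odd n) (g : G1 K) :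
    g ^ 6 = 1 ∨ g ^ (3 ^ n - 1) = 1 ∨ g ^ ((3 ^ n + 1) / 2) = 1 := by
  obtain ⟨⟨ε, h⟩, rfl⟩ := exists_el g
  obtain ⟨a, ha⟩ := half_arith hn
  have hev : ∀ N, 2 ∣ N → ε ^ N = 1 := by
    rintro N ⟨b, rfl⟩
    rw [pow_mul, Int.units_sq, one_pow]
  by_cases ht : (h : M2 K).trace * (h : M2 K).trace = 1
  · left
    refine el_pow_pm (hev 6 (by norm_num)) (Or.inl ?_)
    rw [show (6 : ℕ) = 3 * 2 from rfl, pow_mul]
    rcases cube_of_trace ht with e | e <;> rw [e] <;> simp
  · rcases torus_pow hK hn h ht with e | e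
    · exact Or.inr (Or.inl (el_pow_pm (hev _ (by omega)) (Or.inl e)))
    · exact Or.inr (Or.inr (el_pow_pm (hev _ (by omega)) e))

omit [Fintype K] in
lemma el_eq_one (hneg : ∀ x : K, x * x ≠ -1) {ε : ℤˣ} {h : SL K} (he : el (ε, h) = 1) :
    ε = 1 ∧ (h = 1 ∨ h = -1) := by
  set H : M2 K := (h : M2 K) with hH
  set c : K := ((ε : ℤ) : K) with hc
  have key : ∀ i j a b : Fin 2, c * (H a i * H b j ^ 3) =
      if a = i ∧ b = j then 1 else 0 := by
    intro i j a b
    have e := congrArg (fun g : G1 K => (((g : (Module.End K (M2 K))ˣ) : Module.End K (M2 K))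
      (Matrix.single i j (1 : K))) a b) he
    have e' : endo (ε, h) (Matrix.single i j (1 : K)) a b = Matrix.single i j (1 : K) a b := e
    rw [endo_apply] at e'
    simp [fr, frobenius_def, Matrix.mul_apply, Matrix.single, Fin.sum_univ_two, ← hc, ← hH] at e'
    revert e'
    fin_cases i <;> fin_cases j <;> fin_cases a <;> fin_cases b <;> simp
  have k00 := key 0 0 0 0
  have k11 := key 1 1 1 1
  have k01 := key 0 1 0 1
  have k10 := key 0 0 1 0
  have k10' := key 1 1 0 1
  simp at k00 k11 k01 k10 k10'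
  have hc0 : c ≠ 0 := fun h0 => by simp [h0] at k00
  have hε : ε = 1 := by
    rcases Int.units_eq_one_or ε with h1 | h1
    · exact h1
    · exfalso
      have : c = -1 := by rw [hc, h1]; simp
      exact hneg (H 0 0 * H 0 0) (by linear_combination H 0 0 * H 0 0 ^ 3 * this - k00)
  have hc1 : c = 1 := by rw [hc, hε]; simp
  rw [hc1] at k00 k11 k01 k10 k10'
  simp only [one_mul] at k00 k11 k01 k10 k10'
  have hA : H 0 0 ≠ 0 := fun h0 => by simp [h0] at k00
  have hD : H 1 1 ≠ 0 := fun h0 => by simp [h0] at k11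
  have hC : H 1 0 = 0 := by
    rcases k10 with h0 | h0 | h0
    · exact absurd h0 one_ne_zero
    · exact h0
    · exact absurd h0 hA
  have hB : H 0 1 = 0 := by
    rcases k10' with h0 | h0 | h0
    · exact absurd h0 one_ne_zero
    · exact h0
    · exact absurd h0 hD
  have hdet : H 0 0 * H 1 1 = 1 := by
    have := h.2
    rw [← hH, Matrix.det_fin_two, hB, zero_mul, sub_zero] at this
    exact this
  have hD2 : H 1 1 * H 1 1 = 1 := by
    linear_combination k01 - H 1 1 ^ 2 * hdet
  have hAD : H 0 0 = H 1 1 := by linear_combination H 1 1 * hdet - H 0 0 * hD2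
  refine ⟨hε, ?_⟩
  rcases mul_self_eq_one_iff.1 hD2 with h1 | h1
  · left; refine Subtype.ext ?_
    show H = _
    ext i j; fin_cases i <;> fin_cases j <;> simp [hB, hC, hAD, h1]
  · right; refine Subtype.ext ?_
    show H = _
    ext i j; fin_cases i <;> fin_cases j <;> simp [hB, hC, hAD, h1]

/-! ### the semidirect product -/

variable (K) in
abbrev V (k : ℕ) := Fin k → M2 K

def act (k : ℕ) : G1 K →* MulAut (Multiplicative (V K k)) where
  toFun g :=
    { toFun := fun v => Multiplicative.ofAdd fun j =>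
        ((g : (Module.End K (M2 K))ˣ) : Module.End K (M2 K)) (v.toAdd j)
      invFun := fun v => Multiplicative.ofAdd fun j =>
        (((g : (Module.End K (M2 K))ˣ)⁻¹ : (Module.End K (M2 K))ˣ) : Module.End K (M2 K)) (v.toAdd j)
      left_inv := fun v => by
        refine Multiplicative.toAdd.injective (funext fun j => ?_)
        simp [← Module.End.mul_apply]
      right_inv := fun v => by
        refine Multiplicative.toAdd.injective (funext fun j => ?_)
        simp [← Module.End.mul_apply]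
      map_mul' := fun v w => by
        refine Multiplicative.toAdd.injective (funext fun j => ?_)
        simp }
  map_one' := by
    refine MulEquiv.ext fun v => ?_
    simp
  map_mul' g g' := by
    refine MulEquiv.ext fun v => ?_
    simp [Module.End.mul_apply]

variable (K) in
abbrev Z (k : ℕ) := Multiplicative (V K k) ⋊[act (K := K) k] G1 K

variable {k : ℕ}

omit [Fintype K] in
lemma cube_left (v : Multiplicative (V K k)) : v ^ 3 = 1 := by
  refine Multiplicative.toAdd.injective (funext fun j => ?_)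
  simp only [toAdd_pow, toAdd_one, Pi.smul_apply, Pi.zero_apply]
  ext a b
  simp [three_zero]

omit [Fintype K] in
lemma pow_three_left {z : Z K k} (hz : z.right = 1) : z ^ 3 = 1 := by
  have e : z = SemidirectProduct.inl z.left := by ext <;> simp [hz]
  rw [e, ← map_pow, cube_left, map_one]

omit [Fintype K] in
lemma right_pow (z : Z K k) (N : ℕ) : (z ^ N).right = z.right ^ N :=
  map_pow SemidirectProduct.rightHom z N

theorem pow_cases (hK : Fintype.card K = 3 ^ n) (hn : Odd n) (z : Z K k) :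
    z ^ 6 = 1 ∨ z ^ 9 = 1 ∨ z ^ (3 ^ n - 1) = 1 ∨ z ^ ((3 ^ n + 1) / 2) = 1 := by
  by_cases h2 : z.right ^ 2 = 1
  · left
    rw [show (6 : ℕ) = 2 * 3 from rfl, pow_mul]
    exact pow_three_left (by rw [right_pow, h2])
  by_cases h3 : z.right ^ 3 = 1
  · right; left
    rw [show (9 : ℕ) = 3 * 3 from rfl, pow_mul]
    exact pow_three_left (by rw [right_pow, h3])
  have key : ∀ N, z.right ^ N = 1 → z ^ N = 1 := by
    intro N hN
    have hr : (z ^ N).right = 1 := by rw [right_pow, hN]
    have hcom : z * z ^ N = z ^ N * z := by rw [← pow_succ', pow_succ]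
    have h := congrArg SemidirectProduct.left hcom
    rw [SemidirectProduct.mul_left, SemidirectProduct.mul_left, hr, map_one, MulAut.one_apply,
      mul_comm (z ^ N).left, mul_left_cancel_iff] at h
    have hl : (z ^ N).left = 1 := by
      refine Multiplicative.toAdd.injective (funext fun j => ?_)
      by_contra hne
      obtain ⟨e, he⟩ := exists_el z.right
      have hf : endo e ((z ^ N).left.toAdd j) = (z ^ N).left.toAdd j := by
        have := congrFun (congrArg Multiplicative.toAdd h) j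
        rw [← he] at this
        exact this
      rcases sq_or_cube (neg_one_not_sq hK hn) e _ hne hf with h' | h' <;> rw [he] at h'
      · exact h2 h'
      · exact h3 h'
    ext <;> simp [hr, hl]
  rcases order_cases hK hn z.right with h | h | h
  · exact Or.inl (key _ h)
  · exact Or.inr (Or.inr (Or.inl (key _ h)))
  · exact Or.inr (Or.inr (Or.inr (key _ h)))

def upper (K : Type*) [Field K] : SL K := ⟨!![1, 1; 0, 1], by simp [Matrix.det_fin_two]⟩

omit [Fintype K] in
lemma upper_pow (N : ℕ) : ((upper K ^ N : SL K) : M2 K) = !![1, (N : K); 0, 1] := by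
  induction N with
  | zero => simp [Matrix.one_fin_two]
  | succ N ih =>
    rw [pow_succ, Matrix.SpecialLinearGroup.coe_mul, ih]
    ext i j; fin_cases i <;> fin_cases j <;> simp [upper, Matrix.mul_apply, Fin.sum_univ_two]
    all_goals ring

omit [Fintype K] in
lemma order_el_upper (hneg : ∀ x : K, x * x ≠ -1) :
    orderOf (el ((-1 : ℤˣ), upper K)) = 6 := by
  have h3 : upper K ^ 3 = 1 := by
    refine Subtype.ext ?_
    rw [upper_pow]
    ext i j; fin_cases i <;> fin_cases j <;> simp [three_zero]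
  have hne : ∀ N : ℕ, (N : K) ≠ 0 → ¬ (upper K ^ N = 1 ∨ upper K ^ N = -1) := by
    rintro N hN (h | h) <;>
    · have := congrFun (congrFun (congrArg Subtype.val h) 0) 1
      rw [upper_pow] at this
      simp at this
      exact hN this
  have e6 : el ((-1 : ℤˣ), upper K) ^ 6 = 1 := by
    refine el_pow_pm (by decide) (Or.inl ?_)
    ·       rw [show (6 : ℕ) = 3 * 2 from rfl, pow_mul, h3, one_pow]
  have e2 : el ((-1 : ℤˣ), upper K) ^ 2 ≠ 1 := by
    rw [el_pow]
    intro h
    exact hne 2 (by simpa using two_ne (K := K)) (el_eq_one hneg h).2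
  have e3 : el ((-1 : ℤˣ), upper K) ^ 3 ≠ 1 := by
    rw [el_pow]
    intro h
    have h' := (el_eq_one hneg h).1
    exact absurd h' (show ¬ (-1 : ℤˣ) ^ 3 = 1 by decide)
  have hd := orderOf_dvd_of_pow_eq_one e6
  have : orderOf (el ((-1 : ℤˣ), upper K)) ∈ Nat.divisors 6 := Nat.mem_divisors.2 ⟨hd, by norm_num⟩
  rw [show Nat.divisors 6 = {1, 2, 3, 6} from by decide] at this
  simp only [Finset.mem_insert, Finset.mem_singleton] at this
  rcases this with h | h | h | h
  · exact absurd (pow_orderOf_eq_one (el ((-1 : ℤˣ), upper K))) (fun h' => e2 (by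
      rw [h, pow_one] at h'; rw [h', one_pow]))
  · refine absurd ?_ e2
    have h' := pow_orderOf_eq_one (el ((-1 : ℤˣ), upper K))
    rwa [h] at h'
  · refine absurd ?_ e3
    have h' := pow_orderOf_eq_one (el ((-1 : ℤˣ), upper K))
    rwa [h] at h'
  · exact h

omit [Fintype K] in
lemma exists_nine (hk : 0 < k) : ∃ z : Z K k, orderOf z = 9 := by
  set X : M2 K := !![0, 0; 0, 1] with hX
  set g : G1 K := el ((1 : ℤˣ), upper K) with hg
  set v : Multiplicative (V K k) := Multiplicative.ofAdd fun _ => X with hv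
  refine ⟨⟨v, g⟩, ?_⟩
  have hg3 : g ^ 3 = 1 := by
    rw [hg]
    refine el_pow_pm (one_pow _) (Or.inl ?_)
    refine Subtype.ext ?_
    rw [upper_pow]
    ext i j; fin_cases i <;> fin_cases j <;> simp [three_zero]
  haveI : Fact (Nat.Prime 3) := ⟨Nat.prime_three⟩
  have h9 : (⟨v, g⟩ : Z K k) ^ 3 ^ (1 + 1) = 1 := by
    rw [show 3 ^ (1 + 1) = 3 * 3 from rfl, pow_mul]
    exact pow_three_left (by rw [right_pow]; exact hg3)
  have h3 : ¬ (⟨v, g⟩ : Z K k) ^ 3 ^ 1 = 1 := by
    intro h
    have h' := congrFun (congrArg (fun z : Z K k => z.left.toAdd) h) ⟨0, hk⟩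
    rw [pow_one, pow_three] at h'
    have h'' : X + endo ((1 : ℤˣ), upper K) (X + endo ((1 : ℤˣ), upper K) X) = 0 := h'
    have := congrFun (congrFun h'' 0) 0
    have hf : fr ((upper K : SL K) : M2 K) = !![1, 1; 0, 1] := by
      ext i j; fin_cases i <;> fin_cases j <;> simp [fr, upper]
    have hu : ((upper K : SL K) : M2 K) = !![1, 1; 0, 1] := rfl
    have hT : (!![1, 1; 0, 1] : M2 K)ᵀ = !![1, 0; 1, 1] := by
      ext i j; fin_cases i <;> fin_cases j <;> rfl
    simp only [endo_apply, hf, hT] at this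
    simp [hu, hX, Matrix.add_apply, Matrix.mul_apply, Fin.sum_univ_two] at this
    exact two_ne (K := K) (by linear_combination this - three_zero (K := K))
  rw [orderOf_eq_prime_pow h3 h9]; rfl

lemma exists_q_sub (hK : Fintype.card K = 3 ^ n) (hn : Odd n) :
    ∃ g : G1 K, orderOf g = 3 ^ n - 1 := by
  obtain ⟨w, hw⟩ := IsCyclic.exists_generator (α := Kˣ)
  have ho : orderOf w = 3 ^ n - 1 := by
    rw [orderOf_eq_card_of_forall_mem_zpowers hw, Nat.card_units, Nat.card_eq_fintype_card, hK]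
  obtain ⟨a, ha⟩ := half_arith hn
  let h : SL K := ⟨!![(w : K), 0; 0, ((w⁻¹ : Kˣ) : K)], by simp [Matrix.det_fin_two]⟩
  have hp : ∀ N, ((h ^ N : SL K) : M2 K) = !![(w : K) ^ N, 0; 0, ((w⁻¹ : Kˣ) : K) ^ N] := by
    intro N
    induction N with
    | zero => simp [Matrix.one_fin_two]
    | succ N ih =>
      rw [pow_succ, Matrix.SpecialLinearGroup.coe_mul, ih]
      ext i j; fin_cases i <;> fin_cases j <;>
        simp [h, Matrix.mul_apply, Fin.sum_univ_two, pow_succ]
  refine ⟨el ((-1 : ℤˣ), h), Nat.dvd_antisymm ?_ ?_⟩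
  · refine orderOf_dvd_of_pow_eq_one ?_
    refine el_pow_pm ?_ (Or.inl ?_)
    · exact Even.neg_one_pow ⟨2 * a + 1, by omega⟩
    · refine Subtype.ext ?_
      rw [hp, ← Units.val_pow_eq_pow_val, ← Units.val_pow_eq_pow_val, inv_pow, ← ho, pow_orderOf_eq_one]
      simp [Matrix.one_fin_two]
  · set N := orderOf (el ((-1 : ℤˣ), h))
    have hN := pow_orderOf_eq_one (el ((-1 : ℤˣ), h))
    rw [el_pow] at hN
    obtain ⟨he, hh⟩ := el_eq_one (neg_one_not_sq hK hn) hN
    have hev : Even N := by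
      rcases Nat.even_or_odd N with h' | h'
      · exact h'
      · change (-1 : ℤˣ) ^ N = 1 at he
        rw [h'.neg_one_pow] at he
        exact absurd he (show ¬ (-1 : ℤˣ) = 1 by decide)
    have hw2 : w ^ (N * 2) = 1 := by
      refine Units.ext ?_
      rw [pow_mul, Units.val_pow_eq_pow_val]
      rcases hh with hh | hh <;>
      · have := congrFun (congrFun (congrArg Subtype.val hh) 0) 0
        change ((h ^ N : SL K) : M2 K) 0 0 = _ at this
        rw [hp] at this
        simp at this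
        simp [this]
    have hd : 3 ^ n - 1 ∣ N * 2 := ho ▸ orderOf_dvd_of_pow_eq_one hw2
    have e : 3 ^ n - 1 = (2 * a + 1) * 2 := by omega
    rw [e] at hd ⊢
    have h1 : 2 * a + 1 ∣ N := Nat.dvd_of_mul_dvd_mul_right (by norm_num) hd
    exact Nat.Coprime.mul_dvd_of_dvd_of_dvd
      ((Nat.coprime_two_right).2 ⟨a, rfl⟩) h1 hev.two_dvd

lemma exists_q_add (hK : Fintype.card K = 3 ^ n) (hn : Odd n) :
    ∃ g : G1 K, orderOf g = (3 ^ n + 1) / 2 := by
  classical
  let L := FiniteField.Extension K 3 2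
  let b : Module.Basis (Fin 2) K L :=
    (Module.finBasis K L).reindex (finCongr (FiniteField.finrank_extension K 3 2))
  obtain ⟨w, hw⟩ := IsCyclic.exists_generator (α := Lˣ)
  obtain ⟨a, ha⟩ := half_arith hn
  have hcard : Nat.card L = (3 ^ n) ^ 2 := by
    rw [FiniteField.natCard_extension, Nat.card_eq_fintype_card, hK]
  have ho : orderOf w = (3 ^ n - 1) * (3 ^ n + 1) := by
    rw [orderOf_eq_card_of_forall_mem_zpowers hw, Nat.card_units, hcard]
    have e := Nat.sq_sub_sq (3 ^ n) 1
    rw [one_pow] at e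
    rw [e, mul_comm]
  set y : Lˣ := w ^ (3 ^ n - 1) with hy
  have hoy : orderOf y = 3 ^ n + 1 := by
    rw [hy, orderOf_pow' _ (by omega), ho, Nat.gcd_eq_right (dvd_mul_right _ _),
      Nat.mul_div_cancel_left _ (by omega)]
  have hdw : (Algebra.leftMulMatrix b (w : L)).det ≠ 0 :=
    ((w.isUnit.map (Algebra.leftMulMatrix b)).map Matrix.detMonoidHom).ne_zero
  let h : SL K := ⟨Algebra.leftMulMatrix b (y : L), by
    rw [hy, Units.val_pow_eq_pow_val, map_pow, Matrix.det_pow, ← hK]
    exact FiniteField.pow_card_sub_one_eq_one _ hdw⟩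
  have hp : ∀ N, ((h ^ N : SL K) : M2 K) = Algebra.leftMulMatrix b ((y ^ N : Lˣ) : L) := by
    intro N
    rw [Matrix.SpecialLinearGroup.coe_pow, Units.val_pow_eq_pow_val, map_pow]
  have hoh : orderOf h = 3 ^ n + 1 := by
    rw [← hoy]
    refine orderOf_eq_orderOf_iff.2 fun N => ?_
    constructor
    · intro e
      refine Units.ext (Algebra.leftMulMatrix_injective b ?_)
      rw [← hp, e]; simp
    · intro e
      refine Subtype.ext ?_
      rw [hp, e]; simp
  have e2 : 3 ^ n + 1 = (2 * a + 2) * 2 := by omega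
  have e3 : (3 ^ n + 1) / 2 = 2 * a + 2 := by omega
  refine ⟨el ((1 : ℤˣ), h), Nat.dvd_antisymm ?_ ?_⟩
  · refine orderOf_dvd_of_pow_eq_one ?_
    refine el_pow_pm (one_pow _) ?_
    apply pm_of_sq
    rw [← pow_mul, e3, ← e2, ← hoh, pow_orderOf_eq_one]
  · set N := orderOf (el ((1 : ℤˣ), h))
    have hN := pow_orderOf_eq_one (el ((1 : ℤˣ), h))
    rw [el_pow] at hN
    have hh := (el_eq_one (neg_one_not_sq hK hn) hN).2
    have : h ^ (N * 2) = 1 := by
      rw [pow_mul]
      rcases hh with hh | hh <;>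
      · change h ^ N = _ at hh
        rw [hh]; simp
    have hd : orderOf h ∣ N * 2 := orderOf_dvd_of_pow_eq_one this
    rw [hoh, e2] at hd
    rw [e3]
    exact Nat.dvd_of_mul_dvd_mul_right (by norm_num) hd

theorem spectrum (hK : Fintype.card K = 3 ^ n) (hn : Odd n) (hk : 0 < k) (d : ℕ) :
    (∃ z : Z K k, orderOf z = d) ↔
      (d ∣ 6 ∨ d ∣ 9 ∨ d ∣ 3 ^ n - 1 ∨ d ∣ (3 ^ n + 1) / 2) := by
  constructor
  · rintro ⟨z, rfl⟩
    rcases pow_cases hK hn z with h | h | h | h
    · exact Or.inl (orderOf_dvd_of_pow_eq_one h)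
    · exact Or.inr (Or.inl (orderOf_dvd_of_pow_eq_one h))
    · exact Or.inr (Or.inr (Or.inl (orderOf_dvd_of_pow_eq_one h)))
    · exact Or.inr (Or.inr (Or.inr (orderOf_dvd_of_pow_eq_one h)))
  · obtain ⟨a, ha⟩ := half_arith hn
    have get : ∀ N, 0 < N → (∃ z : Z K k, orderOf z = N) → d ∣ N → ∃ z : Z K k, orderOf z = d := by
      rintro N hN ⟨z, hz⟩ hd
      refine ⟨z ^ (orderOf z / d), orderOf_pow_orderOf_div (by omega) (by rwa [hz])⟩
    have lift : ∀ N, (∃ g : G1 K, orderOf g = N) → ∃ z : Z K k, orderOf z = N := by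
      rintro N ⟨g, hg⟩
      exact ⟨SemidirectProduct.inr g, by
        rw [orderOf_injective _ SemidirectProduct.inr_injective, hg]⟩
    rintro (h | h | h | h)
    · exact get 6 (by norm_num) (lift 6 ⟨_, order_el_upper (neg_one_not_sq hK hn)⟩) h
    · exact get 9 (by norm_num) (exists_nine hk) h
    · exact get _ (by omega) (lift _ (exists_q_sub hK hn)) h
    · exact get _ (by omega) (lift _ (exists_q_add hK hn)) h

instance : Finite (G1 K) := by
  haveI : Finite (ℤˣ × SL K) := inferInstance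
  exact Finite.of_surjective el (fun g => exists_el g)

instance : Finite (Z K k) :=
  Finite.of_equiv _ SemidirectProduct.equivProd.symm

theorem card_big (k : ℕ) : 2 ^ k ≤ Nat.card (Z K k) := by
  rw [SemidirectProduct.card, Nat.card_eq_fintype_card (α := Multiplicative (V K k))]
  have h1 : 2 ^ k ≤ Fintype.card (Multiplicative (V K k)) := by
    rw [Fintype.card_multiplicative, Fintype.card_fun, Fintype.card_fin]
    exact Nat.pow_le_pow_left (Fintype.one_lt_card) k
  exact h1.trans (Nat.le_mul_of_pos_right _ Nat.card_pos)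

end ReeSub
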